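import Groth.Agent.Lib.CohFound.HHBridge
import Groth.Agent.Lib.CohFound.ModAb
import Groth.Agent.Lib.CohFound.Loc
import Groth.Agent.Lib.ModM1.Coh
import Groth.Prelude.Def_Formal
import Mathlib.AlgebraicGeometry.QuasiAffine
import Mathlib.Algebra.Module.Torsion.Basic
import Mathlib.RingTheory.Ideal.AssociatedPrime.Finiteness
import Mathlib.LinearAlgebra.Matrix.Charpoly.LinearMap

/-!
# Acyclic modules with Noetherian sections on quasi-affine schemes
-/

set_option autoImplicit false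
set_option linter.style.haveILetI false

universe u

open CategoryTheory TopologicalSpace Opposite CategoryTheory.Limits AlgebraicGeometry

namespace Groth.Agent.QFAcyc8

/-- An ideal whose elements do not kill a common nonzero vector of a Noetherian module contains a
non-zero-divisor of the module. -/
theorem exists_mem_forall_smul_ne_zero {B M : Type u} [CommRing B] [AddCommGroup M] [Module B M]
    [IsNoetherian B M] (I : Ideal B) (h : ∀ s : M, (∀ g ∈ I, g • s = 0) → s = 0) :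
    ∃ x ∈ I, ∀ s : M, x • s = 0 → s = 0 := by
  let J : Ideal B := Module.annihilator B M
  have hT : Module.IsTorsionBySet B M J := fun m a => Module.mem_annihilator.1 a.2 m
  letI : Module (B ⧸ J) M := hT.module
  haveI : IsNoetherianRing (B ⧸ J) := by
    obtain ⟨n, v, hv⟩ := Module.Finite.exists_fin (R := B) (M := M)
    let φ : B →ₗ[B] (Fin n → M) := LinearMap.pi fun i => LinearMap.toSpanSingleton B M (v i)
    have hker : LinearMap.ker φ = J := by
      refine le_antisymm (fun b hb => ?_) (fun b hb => ?_)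
      · rw [Module.mem_annihilator]
        intro m
        have hm : m ∈ Submodule.span B (Set.range v) := hv ▸ Submodule.mem_top
        induction hm using Submodule.span_induction with
        | mem y hy => obtain ⟨i, rfl⟩ := hy; exact congrFun (LinearMap.mem_ker.1 hb) i
        | zero => exact smul_zero _
        | add y z _ _ hy hz => rw [smul_add, hy, hz, add_zero]
        | smul a y _ hy => rw [smul_comm, hy, smul_zero]
      · exact LinearMap.mem_ker.2 (funext fun i => Module.mem_annihilator.1 hb _)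
    let ψ : (B ⧸ J) →ₗ[B] (Fin n → M) := Submodule.liftQ J φ hker.ge
    have hψ : Function.Injective ψ :=
      LinearMap.ker_eq_bot.1 (Submodule.ker_liftQ_eq_bot' _ _ hker.symm)
    haveI : IsNoetherian B (B ⧸ J) := isNoetherian_of_injective ψ hψ
    exact isNoetherianRing_iff.2 (isNoetherian_of_tower B ‹_›)
  haveI : IsScalarTower B (B ⧸ J) M := hT.isScalarTower
  haveI : Module.Finite (B ⧸ J) M := Module.Finite.of_restrictScalars_finite B (B ⧸ J) M
  have hmk : ∀ (b : B) (m : M), (Ideal.Quotient.mk J b) • m = b • m := fun b m => hT.mk_smul b m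
  by_contra hcon
  push Not at hcon
  let I' : Ideal (B ⧸ J) := I.map (Ideal.Quotient.mk J)
  have hsub : (I' : Set (B ⧸ J)) ⊆ ⋃ P ∈ associatedPrimes (B ⧸ J) M, (P : Set (B ⧸ J)) := by
    intro y hy
    obtain ⟨x, hx, rfl⟩ := (Ideal.mem_map_iff_of_surjective _ Ideal.Quotient.mk_surjective).1 hy
    rw [biUnion_associatedPrimes_eq_zero_divisors]
    obtain ⟨s, hs, hs0⟩ := hcon x hx
    exact ⟨s, hs0, by rw [hmk]; exact hs⟩
  obtain ⟨P, hP, hle⟩ := (I'.subset_union_prime_finite (associatedPrimes.finite (B ⧸ J) M) (f := id)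
    ⊥ ⊥ fun P hP _ _ => hP.isPrime).1 hsub
  obtain ⟨hPp, s, rfl⟩ := (isAssociatedPrime_iff (R := B ⧸ J)).1 hP
  have hs : s = 0 := h s fun g hg => by
    have := hle (Ideal.mem_map_of_mem (Ideal.Quotient.mk J) hg)
    simp only [id_eq, Submodule.mem_colon_singleton, Submodule.mem_bot] at this
    rw [hmk] at this
    exact this
  refine hPp.ne_top ?_
  subst hs
  ext y
  simp

variable {X : Scheme.{u}}

theorem mres_smul_top (F : X.Modules) (g : Γ(X, ⊤)) (U : X.Opens) (t : Γ(F, ⊤)) :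
    M1.mres F (le_top : U ≤ ⊤) (g • t) = M1.rs U g • M1.mres F (le_top : U ≤ ⊤) t :=
  M1.mres_smul F le_top g t

/-- On a quasi-compact scheme, a global function annihilating the global sections of a
quasi-coherent module annihilates all sections over the basic opens of global functions. -/
theorem smul_basicOpen_eq_zero [CompactSpace X] [QuasiSeparatedSpace X] (F : X.Modules) [Coh.IsQCoh F]
    (x : Γ(X, ⊤)) (hx : ∀ s : Γ(F, ⊤), x • s = 0 → s = 0) (g : Γ(X, ⊤)) (t : Γ(F, X.basicOpen g))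
    (ht : M1.rs (X.basicOpen g) x • t = 0) : t = 0 := by
  have hle : (⊤ : X.Opens) ⊓ X.basicOpen g ≤ X.basicOpen g := inf_le_right
  have hge : X.basicOpen g ≤ ⊤ ⊓ X.basicOpen g := le_inf le_top le_rfl
  obtain ⟨n, t₀, h₀⟩ := M1.locSurj_of_isCompact F g (U := ⊤) isCompact_univ (M1.mres F hle t)
  have h₁ : M1.mres F (inf_le_left : ⊤ ⊓ X.basicOpen g ≤ ⊤) (x • t₀) = 0 := by
    rw [mres_smul_top, h₀, smul_comm, ← M1.rs_rs hle x]
    show M1.rs _ g ^ n • (M1.ores hle (M1.rs _ x) • M1.mres F hle t) = 0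
    rw [← M1.mres_smul, ht, map_zero, smul_zero]
  obtain ⟨m, hm⟩ := M1.locInj_of_isCompact F g (U := ⊤) isCompact_univ (x • t₀) h₁
  have hrs : M1.rs (⊤ : X.Opens) g = g := by
    show X.presheaf.map (𝟙 _) g = g
    rw [X.presheaf.map_id]; rfl
  rw [hrs, smul_comm] at hm
  have h₂ : M1.mres F (inf_le_left : ⊤ ⊓ X.basicOpen g ≤ ⊤) (g ^ m • t₀) = 0 := by
    rw [hx _ hm, map_zero]
  rw [M1.mres_smul, h₀, map_pow, ← mul_smul, ← pow_add] at h₂
  have h₃ : M1.mres F hle t = 0 := M1.eq_zero_of_pow_smul inf_le_right h₂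
  have h₄ := congrArg (M1.mres F hge) h₃
  rwa [M1.mres_mres, M1.mres_id, map_zero] at h₄

theorem smulModΓ_app (F : X.Modules) (x : Γ(X, ⊤)) (U : X.Opens) (s : Γ(F, U)) :
    (Formal.smulModΓ F x).app U s = M1.rs U x • s := rfl

theorem mono_smulModΓ [X.IsQuasiAffine] (F : X.Modules) [Coh.IsQCoh F] (x : Γ(X, ⊤))
    (hx : ∀ s : Γ(F, ⊤), x • s = 0 → s = 0) : Mono (Formal.smulModΓ F x) := by
  refine M1.mono_of_basis (Formal.smulModΓ F x)
    {U | ∃ g : Γ(X, ⊤), U = X.basicOpen g} ?_ ?_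
  · refine Opens.isBasis_iff_nbhd.mpr fun {U a} ha => ?_
    obtain ⟨_, ⟨_, ⟨g, _, rfl⟩, rfl⟩, hag, hgU⟩ :=
      (Scheme.IsQuasiAffine.isBasis_basicOpen X).exists_subset_of_mem_open ha U.2
    exact ⟨_, ⟨g, rfl⟩, hag, hgU⟩
  · rintro U ⟨g, rfl⟩
    refine (injective_iff_map_eq_zero _).2 fun t ht => ?_
    exact smul_basicOpen_eq_zero F x hx g t ht

open Groth.Agent.CohFound

theorem surjective_top_of_subsingleton {S : ShortComplex X.Modules} (hS : S.ShortExact)
    (h : Subsingleton (Hc ((abF X).obj S.X₁) 1 ⊤)) : Function.Surjective (S.g.app ⊤) := fun s => by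
  obtain ⟨w, hw⟩ := CohFound.exact₃ (shortExact_abF hS) 0 ⊤ ((hc0 ((abF X).obj S.X₃) ⊤).symm s)
    (@Subsingleton.elim _ h _ _)
  refine ⟨hc0 ((abF X).obj S.X₂) ⊤ w, ?_⟩
  have := congrArg (hc0 ((abF X).obj S.X₃) ⊤) hw
  exact (hc0_mp ((abF X).map S.g) ⊤ w).symm.trans
    (this.trans ((hc0 ((abF X).obj S.X₃) ⊤).apply_symm_apply s))

theorem subsingleton_hc₃ {S : ShortComplex X.Modules} (hS : S.ShortExact) (n : ℕ)
    (h₂ : Subsingleton (Hc ((abF X).obj S.X₂) n ⊤))
    (h₁ : Subsingleton (Hc ((abF X).obj S.X₁) (n + 1) ⊤)) :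
    Subsingleton (Hc ((abF X).obj S.X₃) n ⊤) := by
  refine subsingleton_of_forall_eq 0 fun ξ => ?_
  obtain ⟨w, rfl⟩ := CohFound.exact₃ (shortExact_abF hS) n ⊤ ξ (@Subsingleton.elim _ h₁ _ _)
  exact (congrArg _ (@Subsingleton.elim _ h₂ w 0)).trans (map_zero _)

/-- An acyclic quasi-coherent module with Noetherian module of sections on a quasi-affine scheme:
away from the scheme, its sections have nonzero annihilators. -/
theorem exists_annihilating [X.IsQuasiAffine] (M₀ : Type u) [AddCommGroup M₀] [Module Γ(X, ⊤) M₀]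
    [IsNoetherian Γ(X, ⊤) M₀] (F : X.Modules) (hF : Coh.IsQCoh F) (π : M₀ →ₗ[Γ(X, ⊤)] Γ(F, ⊤))
    (hπ : Function.Surjective π)
    (hac : ∀ q : ℕ, Subsingleton (Hc ((abF X).obj F) (q + 1) ⊤))
    (p : PrimeSpectrum Γ(X, ⊤)) (hp : p ∉ Set.range X.toSpecΓ) :
    ∃ h : Γ(X, ⊤), h ∉ p.asIdeal ∧ ∀ m : Γ(F, ⊤), h • m = 0 := by
  suffices H : ∀ (N : Submodule Γ(X, ⊤) M₀) (F : X.Modules), Coh.IsQCoh F →
      ∀ π : M₀ →ₗ[Γ(X, ⊤)] Γ(F, ⊤), Function.Surjective π → LinearMap.ker π = N →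
      (∀ q : ℕ, Subsingleton (Hc ((abF X).obj F) (q + 1) ⊤)) →
      ∃ h : Γ(X, ⊤), h ∉ p.asIdeal ∧ ∀ m : Γ(F, ⊤), h • m = 0 from H _ F hF π hπ rfl hac
  intro N
  induction N using IsNoetherian.induction with
  | _ N ih =>
  intro F hF π hπ hN hac
  have := hF
  by_cases hsub : Subsingleton Γ(F, ⊤)
  · exact ⟨1, fun h => p.2.ne_top ((Ideal.eq_top_iff_one _).2 h), fun m => Subsingleton.elim _ _⟩
  haveI : IsNoetherian Γ(X, ⊤) Γ(F, ⊤) :=
    isNoetherian_of_surjective π (LinearMap.range_eq_top.2 hπ)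
  let Z : Set (PrimeSpectrum Γ(X, ⊤)) := (Set.range X.toSpecΓ)ᶜ
  have hZ : IsClosed Z := X.toSpecΓ.opensRange.2.isClosed_compl
  have hbo : ∀ g ∈ PrimeSpectrum.vanishingIdeal Z, (PrimeSpectrum.basicOpen g : Set _) ⊆ Zᶜ :=
    fun g hg y hy hyZ => hy ((PrimeSpectrum.mem_vanishingIdeal _ _).1 hg y hyZ)
  -- no section is killed by the ideal of the complement
  have hno : ∀ s : Γ(F, ⊤), (∀ g ∈ PrimeSpectrum.vanishingIdeal Z, g • s = 0) → s = 0 := by
    intro s hs
    refine M1.modules_eq_of_locally_eq F ⊤ (fun g : PrimeSpectrum.vanishingIdeal Z => X.basicOpen g.1)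
      (fun _ => le_top) ?_ s 0 fun g => ?_
    · intro v _
      have hv : X.toSpecΓ v ∉ Z := fun h => h ⟨v, rfl⟩
      rw [← hZ.closure_eq, ← PrimeSpectrum.zeroLocus_vanishingIdeal_eq_closure] at hv
      obtain ⟨g, hg, hgv⟩ := Set.not_subset.1 (fun h => hv ((PrimeSpectrum.mem_zeroLocus _ _).2 h))
      refine Opens.mem_iSup.2 ⟨⟨g, hg⟩, ?_⟩
      rw [← Scheme.toSpecΓ_preimage_basicOpen]
      exact hgv
    · rw [map_zero]
      refine M1.eq_zero_of_pow_smul (f := g.1) le_rfl (n := 1) ?_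
      rw [pow_one, ← mres_smul_top, hs g.1 g.2, map_zero]
  obtain ⟨x, hxI, hx⟩ := exists_mem_forall_smul_ne_zero _ hno
  have hxp : x ∈ p.asIdeal := (PrimeSpectrum.mem_vanishingIdeal _ _).1 hxI p hp
  haveI := mono_smulModΓ F x hx
  let φ := Formal.smulModΓ F x
  let S : ShortComplex X.Modules := ShortComplex.mk φ (cokernel.π φ) (cokernel.condition φ)
  have hS : S.ShortExact :=
    { exact := ShortComplex.exact_cokernel φ
      mono_f := inferInstanceAs (Mono φ)
      epi_g := inferInstanceAs (Epi (cokernel.π φ)) }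
  have hQ : Coh.IsQCoh (cokernel φ) := M1.isQCoh_cokernel hF hF φ
  have hsurj : Function.Surjective ((cokernel.π φ).app ⊤) := surjective_top_of_subsingleton hS (hac 0)
  let π' : M₀ →ₗ[Γ(X, ⊤)] Γ(cokernel φ, ⊤) :=
    { toFun := fun m => (cokernel.π φ).app ⊤ (π m)
      map_add' := fun a b => by simp
      map_smul' := fun r a => by
        rw [map_smul, RingHom.id_apply]
        exact Scheme.Modules.Hom.app_smul _ r _ }
  have hrs : M1.rs (⊤ : X.Opens) x = x := by
    show X.presheaf.map (𝟙 _) x = x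
    rw [X.presheaf.map_id]; rfl
  have hker : ∀ m : Γ(F, ⊤), (cokernel.π φ).app ⊤ m = 0 ↔ ∃ m', x • m' = m := by
    intro m
    haveI : Mono S.f := inferInstanceAs (Mono φ)
    constructor
    · intro hm
      obtain ⟨m', hm'⟩ := M1.sections_exact hS.exact ⊤ m hm
      exact ⟨m', by rw [← hm']; show _ = φ.app ⊤ m'; rw [smulModΓ_app, hrs]⟩
    · rintro ⟨m', rfl⟩
      have : φ.app ⊤ m' = x • m' := by rw [smulModΓ_app, hrs]
      rw [← this]
      exact ConcreteCategory.congr_hom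
        (congrArg (fun ψ : F ⟶ cokernel φ => ψ.app ⊤) (cokernel.condition φ)) m'
  have hlt : N < LinearMap.ker π' := by
    refine lt_of_le_of_ne (fun m hm => ?_) fun he => hsub ⟨fun a b => ?_⟩
    · rw [← hN] at hm
      show (cokernel.π φ).app ⊤ (π m) = 0
      rw [LinearMap.mem_ker.1 hm, map_zero]
    · refine sub_eq_zero.1 (hx _ ?_)
      obtain ⟨m, hm⟩ := hπ (x • (a - b))
      have hm' : m ∈ LinearMap.ker π' := by
        show (cokernel.π φ).app ⊤ (π m) = 0
        exact (hker _).2 ⟨a - b, hm.symm⟩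
      rw [← he, ← hN, LinearMap.mem_ker, hm] at hm'
      exact hm'
  obtain ⟨h, hhp, hh⟩ := ih _ hlt (cokernel φ) hQ π' (hsurj.comp hπ) rfl fun q =>
    subsingleton_hc₃ hS (q + 1) (hac q) (hac (q + 1))
  -- Nakayama
  let f : Module.End Γ(X, ⊤) Γ(F, ⊤) := algebraMap Γ(X, ⊤) _ h
  have hf : LinearMap.range f ≤ Ideal.span {x} • ⊤ := by
    rintro _ ⟨m, rfl⟩
    obtain ⟨m', hm'⟩ := (hker (h • m)).1 (by
      rw [Scheme.Modules.Hom.app_smul]; exact hh _)
    show h • m ∈ _
    rw [← hm']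
    exact Submodule.smul_mem_smul (Ideal.subset_span rfl) trivial
  obtain ⟨P, hmon, -, hcoe, hP⟩ :=
    LinearMap.exists_monic_and_natDegree_eq_and_coeff_mem_pow_and_aeval_eq_zero Γ(X, ⊤) f _ hf
  refine ⟨P.eval h, fun hmem => hhp ?_, fun m => ?_⟩
  · have key : h ^ P.natDegree ∈ p.asIdeal := by
      rw [Polynomial.eval_eq_sum_range, Finset.sum_range_succ, hmon.coeff_natDegree, one_mul] at hmem
      refine (Ideal.add_mem_iff_right _ ?_).1 hmem
      refine Ideal.sum_mem _ fun i hi => Ideal.mul_mem_right _ _ ?_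
      have hlei : Ideal.span {x} ^ (P.natDegree - i) ≤ p.asIdeal :=
        (Ideal.pow_le_self (Nat.sub_ne_zero_of_lt (Finset.mem_range.1 hi))).trans
          ((Ideal.span_singleton_le_iff_mem _).2 hxp)
      exact hlei (hcoe i)
    exact p.2.mem_of_pow_mem _ key
  · have : Polynomial.aeval f P = algebraMap Γ(X, ⊤) (Module.End Γ(X, ⊤) Γ(F, ⊤)) (P.eval h) :=
      Polynomial.aeval_algebraMap_apply_eq_algebraMap_eval h P
    have h0 := LinearMap.congr_fun (this.symm.trans hP) m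
    exact h0

/-- If moreover only nilpotent functions annihilate the sections, the scheme is affine. -/
theorem isAffine_of_acyclic [X.IsQuasiAffine] (F : X.Modules) (hF : Coh.IsQCoh F)
    [IsNoetherian Γ(X, ⊤) Γ(F, ⊤)]
    (hac : ∀ q : ℕ, Subsingleton (Hc ((abF X).obj F) (q + 1) ⊤))
    (hann : ∀ g : Γ(X, ⊤), (∀ m : Γ(F, ⊤), g • m = 0) → IsNilpotent g) : IsAffine X := by
  have hsurj : Function.Surjective X.toSpecΓ := by
    intro p
    by_contra hp
    obtain ⟨h, hh, hann'⟩ := exists_annihilating Γ(F, ⊤) F hF LinearMap.id Function.surjective_id hac p hp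
    exact hh (nilpotent_iff_mem_prime.1 (hann h hann') p.asIdeal p.2)
  haveI : Surjective X.toSpecΓ := ⟨hsurj⟩
  haveI : IsIso X.toSpecΓ := (isIso_iff_isOpenImmersion_and_epi_base _).2
    ⟨inferInstance, (TopCat.epi_iff_surjective _).2 hsurj⟩
  exact ⟨inferInstance⟩

/-- A function annihilating the sections of a module with full support is nilpotent. -/
theorem isNilpotent_of_annihilates [X.IsQuasiAffine] (F : X.Modules) [Coh.IsQCoh F]
    (hsupp : CohB1.support F = Set.univ) (g : Γ(X, ⊤)) (hg : ∀ m : Γ(F, ⊤), g • m = 0) :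
    IsNilpotent g := by
  rw [Scheme.isNilpotent_iff_basicOpen_eq_bot]
  refine le_bot_iff.1 fun v hv => ?_
  have hsv : v ∈ CohB1.support F := hsupp ▸ trivial
  refine hsv (subsingleton_of_forall_eq 0 fun a => ?_)
  obtain ⟨W, hW, t, rfl⟩ := F.presheaf.germ_exist a
  obtain ⟨_, ⟨_, ⟨k, _, rfl⟩, rfl⟩, hvk, hkW⟩ :=
    (Scheme.IsQuasiAffine.isBasis_basicOpen X).exists_subset_of_mem_open
      (show v ∈ ((W ⊓ X.basicOpen g : X.Opens) : Set X) from ⟨hW, hv⟩) (W ⊓ X.basicOpen g).2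
  have hkW' : X.basicOpen k ≤ W := fun y hy => (hkW hy).1
  have hkg : X.basicOpen k ≤ X.basicOpen g := fun y hy => (hkW hy).2
  have hle : (⊤ : X.Opens) ⊓ X.basicOpen k ≤ X.basicOpen k := inf_le_right
  obtain ⟨n, t₀, h₀⟩ :=
    M1.locSurj_of_isCompact F k (U := ⊤) isCompact_univ (M1.mres F (hle.trans hkW') t)
  have h₁ : M1.mres F (inf_le_left : ⊤ ⊓ X.basicOpen k ≤ ⊤) t₀ = 0 := by
    refine M1.eq_zero_of_pow_smul (f := g) (inf_le_right.trans hkg) (n := 1) ?_
    rw [pow_one, ← M1.mres_smul, hg, map_zero]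
  rw [h₁] at h₀
  have h₂ : M1.mres F (hle.trans hkW') t = 0 := M1.eq_zero_of_pow_smul inf_le_right h₀.symm
  rw [← M1.germ_mres F (hle.trans hkW') (⟨trivial, hvk⟩ : v ∈ ((⊤ : X.Opens) ⊓ X.basicOpen k)) t, h₂,
    map_zero]

end Groth.Agent.QFAcyc8
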