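import Groth.Agent.Lib.QFAcyc8.Core
import Groth.Agent.Lib.CohFound.SecAffine
import Groth.Agent.Lib.SchDesc12.LQF
import Mathlib.AlgebraicGeometry.Morphisms.Finite
import Mathlib.RingTheory.IntegralClosure.IsIntegralClosure.Basic

/-!
# Quasi-finite separated morphisms with an acyclic coherent module of full support are finite
-/

set_option autoImplicit false
set_option linter.style.haveILetI false
set_option backward.isDefEq.respectTransparency.types false

universe u

open CategoryTheory TopologicalSpace Opposite CategoryTheory.Limits AlgebraicGeometry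

namespace Groth.Agent.QFAcyc8

open Groth.Agent.CohFound

/-- Vanishing of a higher direct image gives vanishing of cohomology over affine opens. -/
theorem subsingleton_hc_preimage {V X : Scheme.{u}} (f : V ⟶ X) [QuasiCompact f] [QuasiSeparated f]
    [HasInjectiveResolutions V.Modules] {K : V.Modules} (hK : Coh.IsQCoh K) (q : ℕ)
    (h : IsZero ((Coh.Rpush f q).obj K)) {U : X.Opens} (hU : IsAffineOpen U) :
    Subsingleton (Hc ((abF V).obj K) q ((Opens.map (f.base : sp V ⟶ sp X)).obj U)) := by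
  obtain ⟨e⟩ := nonempty_sections_rpushAb f hK q hU
  obtain ⟨e₁⟩ := nonempty_rpush_iso_shPre (f.base : sp V ⟶ sp X) ((abF V).obj K) q
  obtain ⟨e₂⟩ := nonempty_abF_rpush_iso_shPre f K q
  have hz : IsZero ((CohTop.Rpush (f.base : sp V ⟶ sp X) q).obj ((abF V).obj K)) :=
    (((abF X).map_isZero h).of_iso e₂.symm).of_iso e₁
  have hs : IsZero (((CohTop.Rpush (f.base : sp V ⟶ sp X) q).obj ((abF V).obj K)).obj.obj
      (op (U : Opens (sp X)))) :=
    (sheafToPresheaf _ _ ⋙ (evaluation _ _).obj (op (U : Opens (sp X)))).map_isZero hz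
  haveI := AddCommGrpCat.subsingleton_of_isZero hs
  exact e.symm.toEquiv.subsingleton

/-- Integrality along a faithful-up-to-nilpotents finite module. -/
theorem isIntegral_of_finite_module {A B M : Type u} [CommRing A] [CommRing B] [Algebra A B]
    [AddCommGroup M] [Module A M] [Module B M] [IsScalarTower A B M] [Module.Finite A M]
    (hann : ∀ b : B, (∀ m : M, b • m = 0) → IsNilpotent b) : Algebra.IsIntegral A B := by
  refine ⟨fun b => ?_⟩
  obtain ⟨P, hP, h0⟩ := LinearMap.exists_monic_and_aeval_eq_zero A (Algebra.lsmul A A M b)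
  obtain ⟨n, hn⟩ := hann (Polynomial.aeval b P) fun m => by
    have := LinearMap.congr_fun h0 m
    rw [Polynomial.aeval_algHom_apply] at this
    exact this
  exact ⟨P ^ n, hP.pow n, by
    have : Polynomial.aeval b (P ^ n) = 0 := by rw [map_pow, hn]
    exact this⟩

theorem isFinite_morphismRestrict {V X : Scheme.{u}} [IsNoetherian V] [IsNoetherian X] (f : V ⟶ X)
    [LocallyQuasiFinite f] [LocallyOfFiniteType f] [QuasiCompact f] [IsSeparated f]
    [HasInjectiveResolutions V.Modules] (K : V.Modules) (hK : Coh.IsCoh K)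
    (hsupp : CohB1.support K = Set.univ) (hpush : Coh.IsCoh ((Coh.push f).obj K))
    (hvan : ∀ q : ℕ, 0 < q → IsZero ((Coh.Rpush f q).obj K)) {U : X.Opens} (hU : IsAffineOpen U) :
    IsFinite (f ∣_ U) := by
  let V' : Scheme.{u} := (f ⁻¹ᵁ U : V.Opens)
  haveI : IsAffine U := hU
  haveI : LocallyQuasiFinite (f ∣_ U) :=
    MorphismProperty.of_isPullback (isPullback_morphismRestrict f U).flip inferInstance
  haveI : CompactSpace V' :=
    isCompact_iff_compactSpace.mp (QuasiCompact.isCompact_preimage _ U.isOpen hU.isCompact)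
  haveI : V'.IsQuasiAffine := SchDesc12.isQuasiAffine_of_lqf (f ∣_ U)
  let F : V'.Modules := K.restrict (f ⁻¹ᵁ U).ι
  have hF : Coh.IsQCoh F := M1.isQCoh_restrict hK.1 _
  haveI : Coh.IsQCoh F := hF
  have hac : ∀ q : ℕ, Subsingleton (Hc ((abF V').obj F) (q + 1) ⊤) := fun q => by
    obtain ⟨e⟩ := nonempty_hc_abF_restrict (f ⁻¹ᵁ U).ι K (q + 1) ⊤
    have he : ((f ⁻¹ᵁ U).ι ''ᵁ ⊤ : V.Opens) = f ⁻¹ᵁ U := M1.image_ι_top _
    have h := subsingleton_hc_preimage f hK.1 (q + 1) (hvan _ q.succ_pos) hU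
    refine @Equiv.subsingleton _ _ e.toEquiv ?_
    rw [he]
    exact h
  have hsupp' : CohB1.support F = Set.univ := by
    refine Set.eq_univ_of_forall fun v => ?_
    have : (f ⁻¹ᵁ U).ι v ∈ CohB1.support K := hsupp ▸ trivial
    exact (M1.subsingleton_stalk_restrict_iff _ _ _).2 this
  have hnil := isNilpotent_of_annihilates F hsupp'
  -- module structures over the base
  let U₀ : X.Opens := U.ι ''ᵁ ⊤
  have hU₀ : IsAffineOpen U₀ := by rw [show U₀ = U from M1.image_ι_top U]; exact hU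
  have hfin : Module.Finite Γ(X, U₀) Γ((Coh.push f).obj K, U₀) :=
    M1.finite_sections hpush.1 hpush.2 hU₀
  have e : (f ⁻¹ᵁ U).ι ''ᵁ ⊤ = f ⁻¹ᵁ U₀ := by
    rw [M1.image_ι_top, show U₀ = U from M1.image_ι_top U]
  let φ : Γ(X, U₀) →+* Γ(V', ⊤) := (f ∣_ U).appTop.hom
  letI : Algebra Γ(X, U₀) Γ(V', ⊤) := φ.toAlgebra
  letI : Module Γ(X, U₀) Γ(F, ⊤) := Module.compHom _ φ
  haveI : IsScalarTower Γ(X, U₀) Γ(V', ⊤) Γ(F, ⊤) := IsScalarTower.of_compHom _ _ _
  let ψ : Γ((Coh.push f).obj K, U₀) →ₗ[Γ(X, U₀)] Γ(F, ⊤) :=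
    { toFun := fun m => M1.mres K e.le m
      map_add' := fun a b => map_add (ConcreteCategory.hom (M1.mres K e.le)) a b
      map_smul' := fun r a => by
        have h1 : M1.mres K e.le (r • a) =
            (M1.ores e.le (f.app U₀ r) : Γ(V, (f ⁻¹ᵁ U).ι ''ᵁ ⊤)) • M1.mres K e.le a :=
          M1.mres_smul K e.le (f.app U₀ r) (show Γ(K, f ⁻¹ᵁ U₀) from a)
        have h2 : φ r = (M1.ores e.le (f.app U₀ r) : Γ(V, (f ⁻¹ᵁ U).ι ''ᵁ ⊤)) := by
          show (f ∣_ U).app ⊤ r = _
          rw [morphismRestrict_app]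
          rfl
        refine h1.trans ?_
        rw [← h2]
        refine ((M1.restrict_ι_smul K (φ r) (M1.mres K e.le a)).symm.trans ?_)
        rfl }
  haveI : Module.Finite Γ(X, U₀) Γ(F, ⊤) := Module.Finite.of_surjective ψ fun m =>
    ⟨M1.mres K e.ge m, ((M1.mres_mres K e.ge e.le m).trans (M1.mres_id K le_rfl m) :)⟩
  haveI : IsNoetherianRing Γ(X, U₀) := IsLocallyNoetherian.component_noetherian ⟨U₀, hU₀⟩
  haveI : IsNoetherian Γ(V', ⊤) Γ(F, ⊤) := isNoetherian_of_tower Γ(X, U₀) inferInstance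
  haveI : IsAffine V' := isAffine_of_acyclic F hF hac hnil
  have hint : φ.IsIntegral := (isIntegral_of_finite_module (A := Γ(X, U₀)) (M := Γ(F, ⊤)) hnil).isIntegral
  have hft : φ.FiniteType :=
    HasRingHomProperty.appTop @LocallyOfFiniteType (f ∣_ U) inferInstance
  exact (HasAffineProperty.iff_of_isAffine (P := @AlgebraicGeometry.IsFinite)).2
    ⟨‹IsAffine V'›, hint.to_finite hft⟩

theorem isFinite_of_acyclic {V X : Scheme.{u}} [IsNoetherian V] [IsNoetherian X] (f : V ⟶ X)
    [LocallyQuasiFinite f] [LocallyOfFiniteType f] [QuasiCompact f] [IsSeparated f]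
    [HasInjectiveResolutions V.Modules] (K : V.Modules) (hK : Coh.IsCoh K)
    (hsupp : CohB1.support K = Set.univ) (hpush : Coh.IsCoh ((Coh.push f).obj K))
    (hvan : ∀ q : ℕ, 0 < q → IsZero ((Coh.Rpush f q).obj K)) : IsFinite f :=
  IsZariskiLocalAtTarget.of_iSup_eq_top (P := @AlgebraicGeometry.IsFinite) _ (iSup_affineOpens_eq_top X)
    fun U => isFinite_morphismRestrict f K hK hsupp hpush hvan U.2

end Groth.Agent.QFAcyc8
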